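import Groth.Agent.H1Near.Main
import Groth.Agent.ProperComp7.Main
import Mathlib

/-!
# Clopen pieces around proper open parts of the closed fibre over a complete local ring
-/

universe u

set_option backward.isDefEq.respectTransparency false
set_option backward.isDefEq.respectTransparency.types false
set_option maxHeartbeats 1000000
set_option linter.style.haveILetI false

open AlgebraicGeometry CategoryTheory CategoryTheory.Limits TopologicalSpace IsLocalRing

noncomputable section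

namespace Groth.Agent.H1Proper

open Groth.Agent.PnCoh.Chow

variable {A : Type u} [CommRing A] [IsLocalRing A]

/-- The closed point. -/
abbrev pt (A : Type u) [CommRing A] [IsLocalRing A] : ↥(Spec (CommRingCat.of A)) := closedPoint A

/-- Nonempty closed subsets meet the closed fibre. -/
def Meets {X : Scheme.{u}} (f : X ⟶ Spec (CommRingCat.of A)) (W : Set X) : Prop :=
  ∀ C : Set X, IsClosed C → C ⊆ W → C.Nonempty → ∃ z ∈ C, f z = pt A

theorem exists_mem_fibre_of_proper {X : Scheme.{u}} (f : X ⟶ Spec (CommRingCat.of A)) [UniversallyClosed f]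
    {C : Set X} (hC : IsClosed C) (hne : C.Nonempty) : ∃ z ∈ C, f z = pt A := by
  obtain ⟨x, hx⟩ := hne
  exact (IsLocalRing.specializes_closedPoint (f x)).mem_closed (f.isClosedMap _ hC) ⟨x, hx, rfl⟩

theorem fibre_eq_range (X : Scheme.{u}) (f : X ⟶ Spec (CommRingCat.of A)) :
    Set.range (pullback.fst f (Spec.map (CommRingCat.ofHom (Ideal.Quotient.mk (maximalIdeal A))))) =
      f ⁻¹' {pt A} := by
  rw [Scheme.Pullback.range_fst]
  congr 1
  show Set.range (PrimeSpectrum.comap (Ideal.Quotient.mk (maximalIdeal A))) = _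
  rw [range_comap_of_surjective _ _ Ideal.Quotient.mk_surjective, Ideal.mk_ker]
  ext p
  rw [PrimeSpectrum.mem_zeroLocus, Set.mem_singleton_iff]
  refine ⟨fun h => PrimeSpectrum.ext ?_, fun h => ?_⟩
  · exact ((maximalIdeal.isMaximal A).eq_of_le p.2.ne_top h).symm
  · rw [h]; exact le_refl _

/-- A proper connected scheme over a complete local ring has connected closed fibre. -/
theorem isPreconnected_fibre [IsNoetherianRing A] [IsAdicComplete (maximalIdeal A) A] {X : Scheme.{u}}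
    (f : X ⟶ Spec (CommRingCat.of A)) [IsProper f] [PreconnectedSpace ↥X] :
    _root_.IsPreconnected (f ⁻¹' {pt A}) := by
  let i := pullback.fst f (Spec.map (CommRingCat.ofHom (Ideal.Quotient.mk (maximalIdeal A))))
  rw [← fibre_eq_range X f, ← Set.image_univ]
  refine IsPreconnected.image ?_ _ i.continuous.continuousOn
  rw [← preconnectedSpace_iff_univ, preconnectedSpace_iff_clopen]
  intro V hV
  obtain ⟨U, ⟨hU, hUV⟩, -⟩ := ProperComp7.exists_lift_clopen f V hV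
  rcases isClopen_iff.1 hU with rfl | rfl
  · exact Or.inl (by rw [← hUV]; rfl)
  · exact Or.inr (by rw [← hUV]; rfl)

theorem exists_clopen_integral [IsNoetherianRing A] [IsAdicComplete (maximalIdeal A) A] {X : Scheme.{u}}
    [IsIntegral X] (f : X ⟶ Spec (CommRingCat.of A)) [IsSeparated f] [LocallyOfFiniteType f] [QuasiCompact f]
    {P : Scheme.{u}} (i : P ⟶ X) [IsClosedImmersion i] [IsProper (i ≫ f)]
    (hsub : Set.range i ⊆ f ⁻¹' {pt A}) (hop : ∃ O : Set X, IsOpen O ∧ O ∩ f ⁻¹' {pt A} = Set.range i) :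
    ∃ W : Set X, IsClopen W ∧ W ∩ f ⁻¹' {pt A} = Set.range i ∧ Meets f W := by
  obtain ⟨O, hO, hOi⟩ := hop
  obtain ⟨D⟩ := exists_data f
  let Pr := CohB1.ProjSpace D.N A
  let ts : Pr ⟶ Spec (CommRingCat.of A) := CohB1.ProjSpace.toSpec D.N A
  haveI : IsProper ts := isProper_toSpec D.N A
  haveI : IsDominant D.π := by
    haveI : IsDominant (D.γ ≫ D.π) := by rw [D.γ_π]; infer_instance
    exact IsDominant.of_comp D.γ D.π
  have hπsurj : Function.Surjective D.π := by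
    rw [← Set.range_eq_univ, ← D.π.isClosedMap.isClosed_range.closure_eq]
    exact D.π.denseRange.closure_range
  have hpf : ∀ z, ts (D.p z) = f (D.π z) := fun z => by
    rw [← Scheme.Hom.comp_apply, ← D.π_f, Scheme.Hom.comp_apply]
  haveI : IsPreimmersion D.p := by
    haveI := H1Near.isClosedImmersion_restrict D
    haveI : IsPreimmersion ((D.p ⁻¹ᵁ H1Near.goodOpen D).ι ≫ D.p) := by
      rw [← morphismRestrict_ι]; infer_instance
    haveI : IsIso (D.p ⁻¹ᵁ H1Near.goodOpen D).ι := by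
      rw [H1Near.preimage_goodOpen]; exact inferInstanceAs (IsIso (Scheme.topIso D.X').hom)
    rw [show D.p = inv (D.p ⁻¹ᵁ H1Near.goodOpen D).ι ≫ ((D.p ⁻¹ᵁ H1Near.goodOpen D).ι ≫ D.p) from
      (IsIso.inv_hom_id_assoc _ _).symm]
    exact IsPreimmersion.comp _ _
  -- the preimage of the proper part is closed in the projective space
  let i' := pullback.snd i D.π
  have hi' : Set.range i' = D.π ⁻¹' Set.range i := Scheme.Pullback.range_snd _ _
  haveI : IsProper ((i' ≫ D.p) ≫ ts) := by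
    rw [Category.assoc, ← D.π_f, ← pullback.condition_assoc]
    exact MorphismProperty.comp_mem @IsProper _ _ inferInstance inferInstance
  haveI : IsProper (i' ≫ D.p) := IsProper.of_comp (i' ≫ D.p) ts
  have hVp : IsClosed (D.p '' (D.π ⁻¹' Set.range i)) := by
    rw [← hi', ← Set.range_comp]
    exact (i' ≫ D.p).isClosedMap.isClosed_range
  -- the closure in projective space
  let bd := closure (Set.range D.p) \ Set.range D.p
  have hbd : IsClosed bd := H1Near.isClosed_boundary D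
  let J := (Scheme.IdealSheafData.vanishingIdeal (Closeds.closure (Set.range D.p))).subschemeι
  have hJ : Set.range J = closure (Set.range D.p) := H23.RedSub.range_vanishingIdeal _
  let fb := J ≫ ts
  haveI : IsProper fb := MorphismProperty.comp_mem @IsProper _ _ inferInstance inferInstance
  let i₀ := pullback.fst fb (Spec.map (CommRingCat.ofHom (Ideal.Quotient.mk (maximalIdeal A))))
  have hi₀ : Set.range i₀ = fb ⁻¹' {pt A} := fibre_eq_range _ fb
  let φ := fun w => J (i₀ w)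
  obtain ⟨O₁, hO₁, hO₁eq⟩ := D.p.isEmbedding.isInducing.isOpen_iff.1 (hO.preimage D.π.continuous)
  have hV : IsClopen (φ ⁻¹' (D.p '' (D.π ⁻¹' Set.range i))) := by
    refine ⟨hVp.preimage (J.continuous.comp i₀.continuous), ?_⟩
    have : φ ⁻¹' (D.p '' (D.π ⁻¹' Set.range i)) = φ ⁻¹' (O₁ ∩ bdᶜ) := by
      ext w
      have hwcl : φ w ∈ closure (Set.range D.p) := hJ ▸ ⟨_, rfl⟩
      have hwpt : ts (φ w) = pt A := by
        have : i₀ w ∈ fb ⁻¹' {pt A} := hi₀ ▸ ⟨w, rfl⟩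
        exact (Scheme.Hom.comp_apply _ _ _).symm.trans this
      constructor
      · rintro ⟨z, hz, hzw⟩
        show φ w ∈ O₁ ∩ bdᶜ
        rw [← hzw]
        refine ⟨?_, fun h => h.2 ⟨z, rfl⟩⟩
        have : z ∈ D.π ⁻¹' O := (hOi.ge hz).1
        rwa [← hO₁eq] at this
      · rintro ⟨h1, h2⟩
        obtain ⟨z, hz⟩ : φ w ∈ Set.range D.p := by
          by_contra h
          exact h2 ⟨hwcl, h⟩
        refine ⟨z, hOi.le ⟨?_, ?_⟩, hz⟩
        · have : z ∈ D.p ⁻¹' O₁ := by show D.p z ∈ O₁; rw [hz]; exact h1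
          rwa [hO₁eq] at this
        · show f (D.π z) = pt A
          rw [← hpf, hz, hwpt]
    rw [this]
    exact (hO₁.inter hbd.isOpen_compl).preimage (J.continuous.comp i₀.continuous)
  obtain ⟨T, ⟨hT, hTV⟩, -⟩ := ProperComp7.exists_lift_clopen fb _ hV
  -- the lifted piece misses the boundary
  have hJT : IsClosed (J '' T) := J.isClosedEmbedding.isClosedMap _ hT.1
  have hJT' : IsClosed (J '' Tᶜ) := J.isClosedEmbedding.isClosedMap _ hT.compl.1
  have hfibT : ∀ b ∈ J '' T, ts b = pt A → b ∈ D.p '' (D.π ⁻¹' Set.range i) := by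
    rintro _ ⟨t, ht, rfl⟩ hpt
    obtain ⟨w, rfl⟩ : t ∈ Set.range i₀ := by
      rw [hi₀]; exact (Scheme.Hom.comp_apply _ _ _).trans hpt
    exact (Set.ext_iff.1 hTV w).1 ht
  have hTbd : Disjoint (J '' T) bd := by
    rw [Set.disjoint_iff_inter_eq_empty, ← Set.not_nonempty_iff_eq_empty]
    intro hne
    obtain ⟨b, hb, hbpt⟩ := exists_mem_fibre_of_proper ts (hJT.inter hbd) hne
    obtain ⟨z, -, hz⟩ := hfibT b hb.1 hbpt
    exact hb.2.2 ⟨z, hz⟩
  let T₁ := D.p ⁻¹' (J '' T)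
  let T₂ := D.p ⁻¹' (J '' Tᶜ)
  have hcov : ∀ z, z ∈ T₁ ∨ z ∈ T₂ := fun z => by
    obtain ⟨t, ht⟩ : D.p z ∈ Set.range J := hJ ▸ subset_closure ⟨z, rfl⟩
    by_cases h : t ∈ T
    · exact Or.inl ⟨t, h, ht⟩
    · exact Or.inr ⟨t, h, ht⟩
  have hdis : ∀ z, z ∈ T₁ → z ∉ T₂ := by
    rintro z ⟨t, ht, hzt⟩ ⟨t', ht', hzt'⟩
    exact ht' (J.isClosedEmbedding.injective (hzt'.trans hzt.symm) ▸ ht)
  have hT₁c : IsClosed T₁ := hJT.preimage D.p.continuous
  have hT₁fib : ∀ z, z ∈ T₁ → f (D.π z) = pt A → D.π z ∈ Set.range i := by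
    intro z hz hzpt
    obtain ⟨z', hz', he⟩ := hfibT _ hz ((hpf z).trans hzpt)
    rwa [D.p.isEmbedding.injective he] at hz'
  have hfibT₁ : ∀ z, D.π z ∈ Set.range i → z ∈ T₁ := by
    intro z hz
    have hzpt : ts (D.p z) = pt A := (hpf z).trans (hsub hz)
    obtain ⟨t, ht⟩ : D.p z ∈ Set.range J := hJ ▸ subset_closure ⟨z, rfl⟩
    obtain ⟨w, rfl⟩ : t ∈ Set.range i₀ := by
      rw [hi₀]
      show fb t = pt A
      rw [Scheme.Hom.comp_apply, ht, hzpt]
    exact ⟨_, (Set.ext_iff.1 hTV w).2 ⟨z, hz, ht.symm⟩, ht⟩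
  have hT₁M : ∀ C : Set D.X', IsClosed C → C ⊆ T₁ → C.Nonempty → ∃ z ∈ C, f (D.π z) = pt A := by
    intro C hC hCT hne
    have hcl : closure (D.p '' C) ⊆ J '' T := closure_minimal (Set.image_subset_iff.2 hCT) hJT
    obtain ⟨b, hb, hbpt⟩ := exists_mem_fibre_of_proper ts isClosed_closure ((hne.image D.p).closure)
    obtain ⟨z, hz⟩ : b ∈ Set.range D.p := by
      by_contra h
      exact hTbd.notMem_of_mem_left (hcl hb) ⟨closure_mono (Set.image_subset_range _ _) hb, h⟩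
    refine ⟨z, ?_, by rw [← hpf, hz, hbpt]⟩
    rw [← hC.closure_eq, D.p.isEmbedding.isInducing.closure_eq_preimage_closure_image, Set.mem_preimage, hz]
    exact hb
  -- descend to `X`
  let W := D.π '' T₁
  have hWc : IsClosed W := D.π.isClosedMap _ hT₁c
  have hW'c : IsClosed (D.π '' T₂) := D.π.isClosedMap _ (hJT'.preimage D.p.continuous)
  have hWM : Meets f W := by
    intro C hC hCW hne
    obtain ⟨x, hx⟩ := hne
    obtain ⟨z₀, hz₀, rfl⟩ := hCW hx
    obtain ⟨z, hz, hzpt⟩ := hT₁M (T₁ ∩ D.π ⁻¹' C) (hT₁c.inter (hC.preimage D.π.continuous))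
      Set.inter_subset_left ⟨z₀, hz₀, hx⟩
    exact ⟨D.π z, hz.2, hzpt⟩
  have hWi : W ∩ f ⁻¹' {pt A} = Set.range i := by
    refine Set.Subset.antisymm ?_ fun x hx => ?_
    · rintro _ ⟨⟨z, hz, rfl⟩, hzpt⟩
      exact hT₁fib z hz hzpt
    · obtain ⟨z, rfl⟩ := hπsurj x
      exact ⟨⟨z, hfibT₁ z hx, rfl⟩, hsub hx⟩
  refine ⟨W, ⟨hWc, ?_⟩, hWi, hWM⟩
  have hcompl : Wᶜ = D.π '' T₂ := by
    ext x
    obtain ⟨z, rfl⟩ := hπsurj x
    refine ⟨fun h => ⟨z, (hcov z).resolve_left fun hz => h ⟨z, hz, rfl⟩, rfl⟩, fun h hW => ?_⟩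
    obtain ⟨y, hy, hypt⟩ := hWM (W ∩ D.π '' T₂) (hWc.inter hW'c) Set.inter_subset_left ⟨_, hW, h⟩
    have hyi : y ∈ Set.range i := hWi.le ⟨hy.1, hypt⟩
    obtain ⟨z', hz', rfl⟩ := hy.2
    exact hdis z' (hfibT₁ z' hyi) hz'
  rw [← isClosed_compl_iff, hcompl]
  exact hW'c

/-- The lifting of a proper open part of the closed fibre to a clopen subset. -/
theorem exists_clopen [IsNoetherianRing A] [IsAdicComplete (maximalIdeal A) A] {X : Scheme.{u}}
    (f : X ⟶ Spec (CommRingCat.of A)) [IsSeparated f] [LocallyOfFiniteType f] [QuasiCompact f]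
    {P : Scheme.{u}} (i : P ⟶ X) [IsClosedImmersion i] [IsProper (i ≫ f)]
    (hsub : Set.range i ⊆ f ⁻¹' {pt A}) (hop : ∃ O : Set X, IsOpen O ∧ O ∩ f ⁻¹' {pt A} = Set.range i) :
    ∃ W : Set X, IsClopen W ∧ W ∩ f ⁻¹' {pt A} = Set.range i ∧ Meets f W := by
  obtain ⟨O, hO, hOi⟩ := hop
  haveI : CompactSpace X := QuasiCompact.compactSpace_of_compactSpace f
  haveI : IsLocallyNoetherian X := LocallyOfFiniteType.isLocallyNoetherian f
  haveI : IsNoetherian X := {}
  haveI : Finite (genericPoints X) :=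
    (genericPoints.finite NoetherianSpace.finite_irreducibleComponents).to_subtype
  let ι := fun ζ : genericPoints X => (Scheme.IdealSheafData.vanishingIdeal (Closeds.closure {ζ.1})).subschemeι
  have hr : ∀ ζ : genericPoints X, Set.range (ι ζ) = closure {ζ.1} := fun ζ => H23.RedSub.range_vanishingIdeal _
  have hkey : ∀ ζ : genericPoints X, ∃ W : Set (Scheme.IdealSheafData.vanishingIdeal (Closeds.closure {ζ.1})).subscheme,
      IsClopen W ∧ W ∩ (ι ζ ≫ f) ⁻¹' {pt A} = ι ζ ⁻¹' Set.range i ∧ Meets (ι ζ ≫ f) W := by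
    intro ζ
    haveI := QCoh.isIntegral_closure_point ζ.1
    let iZ := pullback.snd i (ι ζ)
    haveI : IsProper (iZ ≫ ι ζ ≫ f) := by
      show IsProper (pullback.snd i (ι ζ) ≫ ι ζ ≫ f)
      rw [← pullback.condition_assoc]
      exact MorphismProperty.comp_mem @IsProper _ _ inferInstance inferInstance
    have hrange : Set.range iZ = ι ζ ⁻¹' Set.range i := Scheme.Pullback.range_snd _ _
    have hpre : ∀ z, z ∈ (ι ζ ≫ f) ⁻¹' {pt A} ↔ ι ζ z ∈ f ⁻¹' {pt A} := fun z => by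
      rw [Set.mem_preimage, Scheme.Hom.comp_apply]; rfl
    obtain ⟨W, h1, h2, h3⟩ := exists_clopen_integral (ι ζ ≫ f) iZ
      (fun z hz => (hpre z).2 (hsub (hrange.le hz)))
      ⟨ι ζ ⁻¹' O, hO.preimage (ι ζ).continuous, by
        rw [hrange, ← hOi]
        ext z
        exact and_congr_right fun _ => hpre z⟩
    exact ⟨W, h1, h2.trans hrange, h3⟩
  choose Wz hWz hWzi hWzM using hkey
  let W := ⋃ ζ, ι ζ '' Wz ζ
  let W' := ⋃ ζ, ι ζ '' (Wz ζ)ᶜ
  have hWc : IsClosed W := isClosed_iUnion_of_finite fun ζ => (ι ζ).isClosedEmbedding.isClosedMap _ (hWz ζ).1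
  have hW'c : IsClosed W' := isClosed_iUnion_of_finite fun ζ => (ι ζ).isClosedEmbedding.isClosedMap _ (hWz ζ).compl.1
  have hex : ∀ x : X, ∃ ζ, x ∈ Set.range (ι ζ) := fun x => by
    refine ⟨genericPoints.ofComponent ⟨_, irreducibleComponent_mem_irreducibleComponents x⟩, ?_⟩
    rw [hr]
    exact ((genericPoints.isGenericPoint_ofComponent ⟨_, irreducibleComponent_mem_irreducibleComponents x⟩).specializes
      mem_irreducibleComponent).mem_closure
  have hWM : Meets f W := by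
    intro C hC hCW hne
    obtain ⟨x, hx⟩ := hne
    obtain ⟨ζ, z₀, hz₀, rfl⟩ := Set.mem_iUnion.1 (hCW hx)
    obtain ⟨z, hz, hzpt⟩ := hWzM ζ (Wz ζ ∩ ι ζ ⁻¹' C) ((hWz ζ).1.inter (hC.preimage (ι ζ).continuous))
      Set.inter_subset_left ⟨z₀, hz₀, hx⟩
    exact ⟨ι ζ z, hz.2, (Scheme.Hom.comp_apply _ _ _).symm.trans hzpt⟩
  have hfib : ∀ ζ z, f (ι ζ z) = pt A → (z ∈ Wz ζ ↔ ι ζ z ∈ Set.range i) := by
    intro ζ z hz
    have hz' : z ∈ (ι ζ ≫ f) ⁻¹' {pt A} := (Scheme.Hom.comp_apply _ _ _).trans hz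
    exact ⟨fun h => (hWzi ζ).le ⟨h, hz'⟩, fun h => ((hWzi ζ).ge h).1⟩
  have hWi : W ∩ f ⁻¹' {pt A} = Set.range i := by
    refine Set.Subset.antisymm ?_ fun x hx => ?_
    · rintro x ⟨hxW, hxpt⟩
      obtain ⟨ζ, z, hz, rfl⟩ := Set.mem_iUnion.1 hxW
      exact (hfib ζ z hxpt).1 hz
    · obtain ⟨ζ, z, rfl⟩ := hex x
      exact ⟨Set.mem_iUnion.2 ⟨ζ, z, (hfib ζ z (hsub hx)).2 hx, rfl⟩, hsub hx⟩
  refine ⟨W, ⟨hWc, ?_⟩, hWi, hWM⟩
  have hcompl : Wᶜ = W' := by
    ext x
    constructor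
    · intro h
      obtain ⟨ζ, z, rfl⟩ := hex x
      exact Set.mem_iUnion.2 ⟨ζ, z, fun hz => h (Set.mem_iUnion.2 ⟨ζ, z, hz, rfl⟩), rfl⟩
    · intro h hW
      obtain ⟨y, hy, hypt⟩ := hWM (W ∩ W') (hWc.inter hW'c) Set.inter_subset_left ⟨_, hW, h⟩
      have hyi : y ∈ Set.range i := hWi.le ⟨hy.1, hypt⟩
      obtain ⟨ζ, z, hz, rfl⟩ := Set.mem_iUnion.1 hy.2
      exact hz ((hfib ζ z hypt).2 hyi)
  rw [← isClosed_compl_iff, hcompl]
  exact hW'c

end Groth.Agent.H1Proper
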