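import Groth.Agent.H1Proper.Clopen
import Groth.Agent.H1Near.Closure
import Groth.Agent.H1Near.Points
import Groth.Agent.HTopAwn.PtFun
import Groth.Agent.MultTypeLib.LocalCriteria
import Groth.Agent.FibDim.Comp
import Groth.Agent.CILib.Basic
import Mathlib

/-!
# Properness at a point of a constructible set with connected fibres
-/

universe u

set_option backward.isDefEq.respectTransparency false
set_option backward.isDefEq.respectTransparency.types false
set_option maxHeartbeats 1000000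
set_option linter.style.haveILetI false

open AlgebraicGeometry CategoryTheory CategoryTheory.Limits TopologicalSpace Topology IsLocalRing

noncomputable section

namespace Groth.Agent.H1Proper

/-- The generic point of the spectrum of a domain. -/
abbrev gpt (A : Type u) [CommRing A] [IsDomain A] : ↥(Spec (CommRingCat.of A)) :=
  (⟨⊥, Ideal.isPrime_bot⟩ : PrimeSpectrum A)

theorem exists_complete_dvr (A : Type u) [CommRing A] [IsDomain A] [IsDiscreteValuationRing A] :
    ∃ (B : Type u) (_ : CommRing B) (_ : IsDomain B) (_ : IsDiscreteValuationRing B) (φ : A →+* B),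
      IsAdicComplete (maximalIdeal B) B ∧
      Spec.map (CommRingCat.ofHom φ) (pt B) = pt A ∧ Spec.map (CommRingCat.ofHom φ) (gpt B) = gpt A := by
  obtain ⟨hd, hv, hinj⟩ := HTopAwn.isDVR_completion (V := A)
  let B := AdicCompletion (maximalIdeal A) A
  have hm : maximalIdeal B = (maximalIdeal A).map (algebraMap A B) := AdicCompletion.maximalIdeal_eq_map
  haveI : IsLocalHom (algebraMap A B) := ((IsLocalRing.local_hom_TFAE _).out 0 2).mpr (le_of_eq hm.symm)
  refine ⟨B, inferInstance, hd, hv, algebraMap A B, CILib.isAdicComplete_adicCompletion A, ?_, ?_⟩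
  · exact IsLocalRing.comap_closedPoint (algebraMap A B)
  · exact PrimeSpectrum.ext (Ideal.comap_bot_of_injective _ hinj)

theorem gpt_specializes {A : Type u} [CommRing A] [IsDomain A] (q : ↥(Spec (CommRingCat.of A))) : gpt A ⤳ q :=
  (PrimeSpectrum.le_iff_specializes (⟨⊥, Ideal.isPrime_bot⟩ : PrimeSpectrum A) (q : PrimeSpectrum A)).1 bot_le

/-- Over discrete valuation rings mapping to the generizations of `y`, the generic part of `Z` is connected
and has a limit point in `Z`. -/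
def Conn {X Y : Scheme.{u}} (f : X ⟶ Y) (Z : Set X) (y : Y) : Prop :=
  ∀ (A : Type u) [CommRing A] [IsDomain A] [IsDiscreteValuationRing A] (G : Spec (CommRingCat.of A) ⟶ Y),
    G (pt A) ⤳ y →
    _root_.IsPreconnected (pullback.fst f G ⁻¹' Z ∩ pullback.snd f G ⁻¹' {gpt A}) ∧
    ∃ z ∈ closure (pullback.fst f G ⁻¹' Z ∩ pullback.snd f G ⁻¹' {gpt A}),
      pullback.snd f G z = pt A ∧ pullback.fst f G z ∈ Z

/-- The fibre of `Z` over `y` is an open part of the fibre, proper over the residue field. -/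
def ProperFibre {X Y : Scheme.{u}} (f : X ⟶ Y) (Z : Set X) (y : Y) : Prop :=
  ∃ (P₀ : Scheme.{u}) (j : P₀ ⟶ X) (b : P₀ ⟶ Spec (Y.residueField y)), Mono j ∧ IsProper b ∧
    j ≫ f = b ≫ Y.fromSpecResidueField y ∧ Set.range j = Z ∩ f ⁻¹' {y} ∧
    ∃ O : Set X, IsOpen O ∧ O ∩ f ⁻¹' {y} = Z ∩ f ⁻¹' {y}

variable {X Y : Scheme.{u}}

theorem exists_W (f : X ⟶ Y) [IsSeparated f] [LocallyOfFiniteType f] [QuasiCompact f] (Z : Set X) (y : Y)
    (hH : Conn f Z y) (hP : ProperFibre f Z y)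
    (B : Type u) [CommRing B] [IsDomain B] [IsDiscreteValuationRing B] [IsAdicComplete (maximalIdeal B) B]
    (G : Spec (CommRingCat.of B) ⟶ Y) (hG : G (pt B) = y) :
    ∃ W : Set ↥(pullback f G), IsClopen W ∧ Meets (pullback.snd f G) W ∧
      W ∩ pullback.snd f G ⁻¹' {pt B} = pullback.fst f G ⁻¹' Z ∩ pullback.snd f G ⁻¹' {pt B} ∧
      pullback.fst f G ⁻¹' Z ∩ pullback.snd f G ⁻¹' {gpt B} ⊆ W := by
  obtain ⟨P₀, j, b, hj, hb, hjb, hr, O, hO, hOZ⟩ := hP
  let S := Spec (CommRingCat.of B)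
  let q := pullback.snd f G
  let p := pullback.fst f G
  let κ := S.fromSpecResidueField (pt B)
  let ρ : Spec (S.residueField (pt B)) ⟶ Spec (Y.residueField y) :=
    Spec.map ((Y.residueFieldCongr hG).inv ≫ G.residueFieldMap (pt B))
  have hρ : ρ ≫ Y.fromSpecResidueField y = κ ≫ G := by
    simp only [ρ, κ, Spec.map_comp, Category.assoc, Scheme.residueFieldCongr_inv,
      Scheme.residueFieldCongr_fromSpecResidueField, Scheme.Hom.SpecMap_residueFieldMap_fromSpecResidueField]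
    rfl
  let i : pullback b ρ ⟶ pullback f G := pullback.map b ρ f G j κ (Y.fromSpecResidueField y) hjb.symm hρ
  have hi₁ : i ≫ p = pullback.fst b ρ ≫ j := pullback.lift_fst _ _ _
  have hi₂ : i ≫ q = pullback.snd b ρ ≫ κ := pullback.lift_snd _ _ _
  haveI : IsClosedImmersion κ :=
    (isClosed_singleton_iff_isClosedImmersion).1 (isClosed_singleton_closedPoint B)
  haveI : IsProper (pullback.snd b ρ) := inferInstance
  haveI : IsProper (i ≫ q) := by
    rw [hi₂]; exact MorphismProperty.comp_mem @IsProper _ _ inferInstance inferInstance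
  haveI : IsSeparated q := inferInstanceAs (IsSeparated (pullback.snd f G))
  haveI : LocallyOfFiniteType q := inferInstanceAs (LocallyOfFiniteType (pullback.snd f G))
  haveI : QuasiCompact q := inferInstanceAs (QuasiCompact (pullback.snd f G))
  haveI : IsProper i := IsProper.of_comp i q
  haveI : Mono i := by
    constructor
    intro T u v huv
    refine pullback.hom_ext ((cancel_mono j).1 ?_) ((cancel_mono κ).1 ?_)
    · rw [Category.assoc, Category.assoc, ← hi₁, reassoc_of% huv]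
    · rw [Category.assoc, Category.assoc, ← hi₂, reassoc_of% huv]
  haveI : IsClosedImmersion i := (IsClosedImmersion.iff_isProper_and_mono i).2 ⟨inferInstance, inferInstance⟩
  have hqpt : ∀ v, q v = pt B → f (p v) = y := fun v hv => by
    rw [← Scheme.Hom.comp_apply, pullback.condition, Scheme.Hom.comp_apply]
    show G (q v) = y
    rw [hv, hG]
  have hrange : Set.range i = p ⁻¹' Z ∩ q ⁻¹' {pt B} := by
    rw [Scheme.Pullback.range_map, hr, Scheme.range_fromSpecResidueField]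
    ext v
    exact ⟨fun h => ⟨h.1.1, h.2⟩, fun h => ⟨⟨h.1, hqpt v h.2⟩, h.2⟩⟩
  obtain ⟨W, hW, hWi, hWM⟩ := exists_clopen q i (fun v hv => (hrange.le hv).2)
    ⟨p ⁻¹' O, hO.preimage p.continuous, by
      rw [hrange]
      ext v
      constructor
      · rintro ⟨h1, h2⟩
        exact ⟨(hOZ.le ⟨h1, hqpt v h2⟩).1, h2⟩
      · rintro ⟨h1, h2⟩
        exact ⟨(hOZ.ge ⟨h1, hqpt v h2⟩).1, h2⟩⟩
  refine ⟨W, hW, hWM, hWi.trans hrange, ?_⟩
  obtain ⟨hpre, z, hz, hzpt, hzZ⟩ := hH B G (specializes_of_eq hG)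
  have hzW : z ∈ W := ((hWi.trans hrange).ge ⟨hzZ, hzpt⟩).1
  obtain ⟨v, hv, hvW⟩ := mem_closure_iff.1 hz W hW.2 hzW
  exact hpre.subset_isClopen hW ⟨v, hvW, hv⟩

theorem dvrSections (f : X ⟶ Y) [IsSeparated f] [LocallyOfFiniteType f] [QuasiCompact f] (Z : Set X) (y : Y)
    (hH : Conn f Z y) (hP : ProperFibre f Z y) : H1Near.DVRSections f Z y := by
  intro A _ _ _ g hgc x' hx'Z hx'2 hb
  obtain ⟨B, _, _, _, φ, hBc, hφc, hφg⟩ := exists_complete_dvr A
  let σB := Spec.map (CommRingCat.ofHom φ)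
  let G := σB ≫ g
  have hG : G (pt B) = y := by
    show (σB ≫ g) (pt B) = y
    rw [Scheme.Hom.comp_apply, hφc]; exact hgc
  obtain ⟨W, hW, hWM, -, hWg⟩ := exists_W f Z y hH hP B G hG
  have hx'η : pullback.snd f g x' = gpt A := hx'2.trans (genericPoint_eq_bot_of_affine (CommRingCat.of A))
  obtain ⟨x₂, hx₂, hx₂'⟩ := Scheme.Pullback.exists_preimage_pullback (f := pullback.snd f g) (g := σB) x' (gpt B)
    (hx'η.trans hφg.symm)
  let e := pullbackLeftPullbackSndIso f g σB
  have he₁ : e.hom ≫ pullback.fst f G = pullback.fst _ σB ≫ pullback.fst f g :=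
    pullbackLeftPullbackSndIso_hom_fst f g σB
  have he₂ : e.hom ≫ pullback.snd f G = pullback.snd _ σB := pullbackLeftPullbackSndIso_hom_snd f g σB
  have hmem : e.hom x₂ ∈ W := hWg ⟨by
    show pullback.fst f G (e.hom x₂) ∈ Z
    rw [← Scheme.Hom.comp_apply, he₁, Scheme.Hom.comp_apply, hx₂]
    exact hx'Z, by
    show pullback.snd f G (e.hom x₂) = gpt B
    rw [← Scheme.Hom.comp_apply, he₂]
    exact hx₂'⟩
  obtain ⟨zB, hzB, hzBpt⟩ := hWM (closure {e.hom x₂}) isClosed_closure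
    (closure_minimal (Set.singleton_subset_iff.2 hmem) hW.1) ⟨_, subset_closure rfl⟩
  let z := pullback.fst (pullback.snd f g) σB (e.inv zB)
  have hsp : x' ⤳ z := by
    have h1 := ((specializes_iff_mem_closure.2 hzB).map e.inv.continuous).map
      (pullback.fst (pullback.snd f g) σB).continuous
    rwa [← Scheme.Hom.comp_apply e.hom, Iso.hom_inv_id, show (𝟙 _ : pullback (pullback.snd f g) σB ⟶ _) x₂ = x₂ from rfl,
      hx₂] at h1
  have hz : pullback.snd f g z = pt A := by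
    show pullback.snd f g (pullback.fst (pullback.snd f g) σB (e.inv zB)) = _
    rw [← Scheme.Hom.comp_apply, pullback.condition, Scheme.Hom.comp_apply,
      show pullback.snd (pullback.snd f g) σB (e.inv zB) = pullback.snd f G zB from by
        rw [← he₂, Scheme.Hom.comp_apply, ← Scheme.Hom.comp_apply e.inv, Iso.inv_hom_id]; rfl, hzBpt]
    exact hφc
  let m : Spec (CommRingCat.of (FractionRing A)) ⟶ Spec (CommRingCat.of A) :=
    Spec.map (CommRingCat.ofHom (algebraMap A (FractionRing A)))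
  let p0 : ↥(Spec (CommRingCat.of (FractionRing A))) := closedPoint (FractionRing A)
  have hm : m p0 = pullback.snd f g x' :=
    (H1Near.specMap_subtype_closedPoint _ (IsFractionRing.injective A (FractionRing A))).trans hx'2.symm
  obtain ⟨ψ, hψ⟩ := H1Near.exists_desc m hm
  haveI := H1Near.isIso_residueFieldMap_of_bijective (pullback.snd f g) x' hb
  let τ : Spec (CommRingCat.of (FractionRing A)) ⟶ pullback f g :=
    Spec.map (inv ((pullback.snd f g).residueFieldMap x') ≫ ψ) ≫ (pullback f g).fromSpecResidueField x'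
  have hτ : τ p0 = x' := (Scheme.Hom.comp_apply _ _ _).trans (Scheme.fromSpecResidueField_apply _ _)
  have hτ2 : τ ≫ pullback.snd f g = m := by
    rw [Category.assoc, ← Scheme.Hom.SpecMap_residueFieldMap_fromSpecResidueField,
      ← Spec.map_comp_assoc, IsIso.hom_inv_id_assoc, hψ]
  obtain ⟨s, hs, hs'⟩ := H1Near.exists_section_of_specializes (pullback.snd f g) τ hτ2 (z := z)
    (hτ.symm ▸ hsp) hz
  refine ⟨s, hs, m p0, ?_⟩
  rw [← Scheme.Hom.comp_apply, hs', hτ]

theorem exists_specializes_mem [IsNoetherian X] {Z : Set X} (hZ : IsConstructible Z) {w : X} (hw : w ∈ closure Z) :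
    ∃ w₀ ∈ Z, w₀ ⤳ w :=
  (ProConsLib.consClosed_of_isConstructible hZ).exists_specializes_of_mem_closure hw

theorem mem_of_mem_closure [IsNoetherian X] (f : X ⟶ Y) [IsSeparated f] [LocallyOfFiniteType f] [QuasiCompact f]
    (Z : Set X) (hZ : IsConstructible Z) (y : Y) (hH : Conn f Z y)
    (hcomp : ∀ y', y' ⤳ y → ∀ x ∈ Z, f x = y' → Z ∩ f.base ⁻¹' {y'} = connectedComponentIn (f.base ⁻¹' {y'}) x)
    (U : Y.Opens) {K : Scheme.{u}} (c : K ⟶ X) (c' : K ⟶ U.toScheme) [IsProper c'] (hc : c' ≫ U.ι = c ≫ f)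
    (hKr : Set.range c = closure Z ∩ f ⁻¹' (U : Set Y))
    {w : X} (hw : w ∈ closure Z) (hwU : f w ∈ U) (hwy : f w ⤳ y) : w ∈ Z := by
  obtain ⟨w₀, hw₀, hsp⟩ := exists_specializes_mem hZ hw
  by_cases hfw : f w₀ = f w
  · refine ((hcomp (f w) hwy w₀ hw₀ hfw).ge ?_).1
    refine IsPreconnected.subset_connectedComponentIn (s := closure {w₀} ∩ f.base ⁻¹' {f w}) ?_
      ⟨subset_closure rfl, hfw⟩ Set.inter_subset_right ⟨hsp.mem_closure, rfl⟩
    exact isPreconnected_singleton.subset_closure (Set.singleton_subset_iff.mpr ⟨subset_closure rfl, hfw⟩)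
      Set.inter_subset_left
  have hne : w ≠ w₀ := fun h => hfw (congrArg f h.symm)
  obtain ⟨A, h, hA, hhc, hhg⟩ := Proj16.exists_dvr_path (p := 𝟙 X) (x := w₀) (y' := w) hsp hne
  have hhη : h (gpt A) = w₀ := by
    have h1 : Spec.map (CommRingCat.ofHom A.subtype) (closedPoint (X.residueField w₀)) = gpt A := by
      refine PrimeSpectrum.ext ?_
      show Ideal.comap A.subtype (maximalIdeal (X.residueField w₀)) = ⊥
      rw [maximalIdeal_eq_bot]
      exact Ideal.comap_bot_of_injective _ Subtype.val_injective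
    rw [← h1, ← Scheme.Hom.comp_apply, hhg, Category.comp_id]
    exact Scheme.fromSpecResidueField_apply w₀ _
  obtain ⟨B, _, _, _, φ, hBc, hφc, hφg⟩ := exists_complete_dvr A
  let hB := Spec.map (CommRingCat.ofHom φ) ≫ h
  have hBpt : hB (pt B) = w := by
    show (Spec.map (CommRingCat.ofHom φ) ≫ h) (pt B) = w
    rw [Scheme.Hom.comp_apply, hφc]; exact hhc
  have hBη : hB (gpt B) = w₀ := by
    show (Spec.map (CommRingCat.ofHom φ) ≫ h) (gpt B) = w₀
    rw [Scheme.Hom.comp_apply, hφg, hhη]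
  let G := hB ≫ f
  have hGpt : G (pt B) = f w := by rw [Scheme.Hom.comp_apply, hBpt]
  let p := pullback.fst f G
  let q := pullback.snd f G
  let σ : Spec (CommRingCat.of B) ⟶ pullback f G := pullback.lift hB (𝟙 _) (by rw [Category.id_comp])
  have hpσ : ∀ t, p (σ t) = hB t := fun t => by rw [← Scheme.Hom.comp_apply, pullback.lift_fst]
  have hqσ : ∀ t, q (σ t) = t := fun t => by rw [← Scheme.Hom.comp_apply, pullback.lift_snd]; rfl
  obtain ⟨hpre, z, hz, hzpt, hzZ⟩ := hH B G (hGpt.symm ▸ hwy)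
  set Pη := p ⁻¹' Z ∩ q ⁻¹' {gpt B}
  have hση : σ (gpt B) ∈ Pη := ⟨by show p (σ (gpt B)) ∈ Z; rw [hpσ, hBη]; exact hw₀, hqσ _⟩
  have hσpt : σ (pt B) ∈ closure Pη :=
    closure_mono (Set.singleton_subset_iff.2 hση) ((gpt_specializes (pt B)).map σ.continuous).mem_closure
  -- the closure is proper over the complete ring
  have hGU : Set.range G ⊆ (U : Set Y) := by
    rintro _ ⟨t, rfl⟩
    exact ((IsLocalRing.specializes_closedPoint t).map G.continuous).mem_open U.isOpen (by rw [hGpt]; exact hwU)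
  let G' := IsOpenImmersion.lift U.ι G (by rw [Scheme.Opens.range_ι]; exact hGU)
  have hG' : G' ≫ U.ι = G := IsOpenImmersion.lift_fac _ _ _
  let m : pullback c' G' ⟶ pullback f G := pullback.map _ _ _ _ c (𝟙 _) U.ι hc
    (by rw [hG', Category.id_comp])
  have hmq : m ≫ q = pullback.snd c' G' := (pullback.lift_snd _ _ _).trans (Category.comp_id _)
  haveI : IsProper (m ≫ q) := by rw [hmq]; infer_instance
  have hrange : closure Pη ⊆ Set.range m := by
    rw [Scheme.Pullback.range_map, hKr]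
    intro v hv
    have hvZ : p v ∈ closure Z :=
      map_mem_closure p.continuous (closure_mono Set.inter_subset_left hv) fun a ha => ha
    refine ⟨⟨hvZ, ?_⟩, by simp⟩
    show f (p v) ∈ U
    rw [← Scheme.Hom.comp_apply, pullback.condition, Scheme.Hom.comp_apply]
    exact hGU ⟨_, rfl⟩
  let Tc : Closeds ↥(pullback f G) := Closeds.closure Pη
  let jT := (Scheme.IdealSheafData.vanishingIdeal Tc).subschemeι
  have hjT : Set.range jT = closure Pη := H23.RedSub.range_vanishingIdeal _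
  haveI : IsSeparated q := inferInstanceAs (IsSeparated (pullback.snd f G))
  haveI : LocallyOfFiniteType q := inferInstanceAs (LocallyOfFiniteType (pullback.snd f G))
  let r := pullback.fst jT m
  haveI : Surjective r := ⟨fun t => by
    obtain ⟨k, hk⟩ := hrange (hjT.le ⟨t, rfl⟩)
    obtain ⟨a, ha, -⟩ := Scheme.Pullback.exists_preimage_pullback (f := jT) (g := m) t k hk.symm
    exact ⟨a, ha⟩⟩
  haveI : IsProper (r ≫ jT ≫ q) := by
    rw [pullback.condition_assoc]
    exact MorphismProperty.comp_mem @IsProper _ _ inferInstance inferInstance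
  haveI : UniversallyClosed (jT ≫ q) := UniversallyClosed.of_comp_surjective r (jT ≫ q)
  haveI : IsProper (jT ≫ q) := {}
  haveI : PreconnectedSpace ↥(Scheme.IdealSheafData.vanishingIdeal Tc).subscheme := by
    rw [preconnectedSpace_iff_univ, ← jT.isClosedEmbedding.isInducing.isPreconnected_image, Set.image_univ, hjT]
    exact hpre.closure
  have hconn := ((isPreconnected_fibre (jT ≫ q)).image jT jT.continuous.continuousOn).image p p.continuous.continuousOn
  have hmem : ∀ v ∈ closure Pη, q v = pt B → p v ∈ p '' (jT '' ((jT ≫ q) ⁻¹' {pt B})) := by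
    intro v hv hvpt
    obtain ⟨t, rfl⟩ : v ∈ Set.range jT := hjT ▸ hv
    exact ⟨_, ⟨t, (Scheme.Hom.comp_apply _ _ _).trans hvpt, rfl⟩, rfl⟩
  have hfz : f (p z) = f w := by
    rw [← Scheme.Hom.comp_apply, pullback.condition, Scheme.Hom.comp_apply]
    show G (q z) = f w
    rw [hzpt, hGpt]
  refine ((hcomp (f w) hwy (p z) hzZ hfz).ge (hconn.subset_connectedComponentIn (hmem z hz hzpt) ?_ ?_)).1
  · rintro _ ⟨_, ⟨t, ht, rfl⟩, rfl⟩
    show f (p (jT t)) = f w
    rw [← Scheme.Hom.comp_apply, pullback.condition, Scheme.Hom.comp_apply]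
    show G (q (jT t)) = f w
    rw [show q (jT t) = pt B from (Scheme.Hom.comp_apply _ _ _).symm.trans ht, hGpt]
  · have := hmem (σ (pt B)) hσpt (hqσ _)
    rwa [hpσ, hBpt] at this

/-- EGA IV 15.7.1 core, Noetherian base. -/
theorem exists_proper_at [IsNoetherian Y] (f : X ⟶ Y) [IsSeparated f] [LocallyOfFiniteType f] [QuasiCompact f]
    (Z : Set X) (hZ : IsConstructible Z) (y : Y) (hH : Conn f Z y) (hP : ProperFibre f Z y)
    (hcomp : ∀ y', y' ⤳ y → ∀ x ∈ Z, f x = y' → Z ∩ f.base ⁻¹' {y'} = connectedComponentIn (f.base ⁻¹' {y'}) x) :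
    ∃ U : Y.Opens, y ∈ U ∧ ∃ (C : Scheme.{u}) (c : C ⟶ X) (c' : C ⟶ U.toScheme), Mono c ∧ IsProper c' ∧
      c' ≫ U.ι = c ≫ f ∧ Set.range c = Z ∩ f ⁻¹' (U : Set Y) := by
  haveI : CompactSpace X := QuasiCompact.compactSpace_of_compactSpace f
  haveI : IsLocallyNoetherian X := LocallyOfFiniteType.isLocallyNoetherian f
  haveI : IsNoetherian X := {}
  have hmax : ∀ z ∈ closure Z, (∀ z' ∈ closure Z, z ∈ closure {z'} → z' = z) → z ∈ Z := fun z hz h => by
    obtain ⟨w₀, hw₀, hsp⟩ := exists_specializes_mem hZ hz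
    exact h w₀ (subset_closure hw₀) hsp.mem_closure ▸ hw₀
  obtain ⟨U₁, hyU₁, hC₁, hp₁⟩ := H1Near.exists_proper_of_dvrSections f Z hmax y (dvrSections f Z y hH hP)
  let K := (Scheme.IdealSheafData.vanishingIdeal
    (⟨(f ⁻¹ᵁ U₁).ι.base ⁻¹' closure Z, hC₁⟩ : TopologicalSpace.Closeds ↥(f ⁻¹ᵁ U₁).toScheme))
  let c₁ := K.subschemeι ≫ (f ⁻¹ᵁ U₁).ι
  let c₁' := K.subschemeι ≫ (f ∣_ U₁)
  haveI : IsProper c₁' := hp₁
  have hc₁ : c₁' ≫ U₁.ι = c₁ ≫ f := by rw [Category.assoc, morphismRestrict_ι, Category.assoc]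
  have hr₁ : Set.range c₁ = closure Z ∩ f ⁻¹' (U₁ : Set Y) := by
    rw [Scheme.Hom.comp_base, TopCat.coe_comp, Set.range_comp, H23.RedSub.range_vanishingIdeal]
    show (f ⁻¹ᵁ U₁).ι '' ((f ⁻¹ᵁ U₁).ι ⁻¹' closure Z) = _
    rw [Set.image_preimage_eq_inter_range, Scheme.Opens.range_ι]
    rfl
  have hkey : ∀ w ∈ closure Z, f w ⤳ y → w ∈ Z := fun w hw hwy =>
    mem_of_mem_closure f Z hZ y hH hcomp U₁ c₁ c₁' hc₁ hr₁ hw (hwy.mem_open U₁.isOpen hyU₁) hwy
  have hcl : IsConstructible (closure Z) := by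
    rw [← isConstructible_compl]
    exact (NoetherianSpace.isCompact _).isConstructible isClosed_closure.isOpen_compl
  have hE : IsConstructible (f '' (closure Z \ Z)) := by
    haveI : LocallyOfFinitePresentation f := inferInstance
    exact f.isConstructible_image (hcl.sdiff hZ)
  have hnh : (f '' (closure Z \ Z))ᶜ ∈ nhds y := FibDim.mem_nhds_of_generizations hE.compl.isLocallyConstructible
    fun y' hy' => by
      rintro ⟨w, ⟨hw, hwn⟩, rfl⟩
      exact hwn (hkey w hw hy')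
  obtain ⟨N, hN, hNo, hyN⟩ := mem_nhds_iff.1 hnh
  let U : Y.Opens := U₁ ⊓ ⟨N, hNo⟩
  refine ⟨U, ⟨hyU₁, hyN⟩, pullback c₁' (Y.homOfLE (inf_le_left : U ≤ U₁)),
    pullback.fst _ _ ≫ c₁, pullback.snd _ _, mono_comp _ _, inferInstance, ?_, ?_⟩
  · rw [Category.assoc, ← hc₁, pullback.condition_assoc, Scheme.homOfLE_ι]
  · rw [Scheme.Hom.comp_base, TopCat.coe_comp, Set.range_comp, Scheme.Pullback.range_fst]
    ext x
    constructor
    · rintro ⟨k, ⟨u, hu⟩, rfl⟩
      have h1 : c₁ k ∈ closure Z ∩ f ⁻¹' (U₁ : Set Y) := hr₁ ▸ ⟨k, rfl⟩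
      have h2 : f (c₁ k) ∈ U := by
        rw [← Scheme.Hom.comp_apply, ← hc₁, Scheme.Hom.comp_apply, ← hu, ← Scheme.Hom.comp_apply, Scheme.homOfLE_ι]
        exact u.2
      refine ⟨?_, h2⟩
      by_contra hn
      exact hN h2.2 ⟨c₁ k, ⟨h1.1, hn⟩, rfl⟩
    · rintro ⟨hxZ, hxU⟩
      obtain ⟨k, rfl⟩ : x ∈ Set.range c₁ := hr₁ ▸ ⟨subset_closure hxZ, hxU.1⟩
      refine ⟨k, ⟨⟨f (c₁ k), hxU⟩, U₁.ι.isOpenEmbedding.injective ?_⟩, rfl⟩
      rw [← Scheme.Hom.comp_apply, Scheme.homOfLE_ι]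
      exact (show f (c₁ k) = U₁.ι (c₁' k) by rw [← Scheme.Hom.comp_apply, ← Scheme.Hom.comp_apply, hc₁])

end Groth.Agent.H1Proper
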