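import Groth.Agent.H1Proper.Section
import Groth.Agent.Triage.GeomCount
import Mathlib

/-!
# The locus of proper fibres (EGA IV 15.7.11)
-/

universe u

set_option backward.isDefEq.respectTransparency false
set_option backward.isDefEq.respectTransparency.types false
set_option maxHeartbeats 1000000
set_option linter.style.haveILetI false

open AlgebraicGeometry CategoryTheory CategoryTheory.Limits TopologicalSpace Topology
open EGA43

noncomputable section

namespace Groth.Agent.H1Proper

variable {X Y X' Y' : Scheme.{u}}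

theorem isPreconnected_fibre_of_nGeom (f : X ⟶ Y) (y : Y) (h : MoreMor.nGeomConnComp f y ≤ 1) :
    _root_.IsPreconnected (f.base ⁻¹' {y}) := by
  haveI : Subsingleton (_root_.ConnectedComponents ↥(MoreMor.geomFiber f y)) :=
    (ENat.card_le_one_iff_subsingleton _).1 h
  haveI hpc : PreconnectedSpace ↥(MoreMor.geomFiber f y) := preconnectedSpace_iff_connectedComponent.2 fun x =>
    Set.eq_univ_iff_forall.2 fun z => ConnectedComponents.coe_eq_coe'.1 (Subsingleton.elim _ _)
  haveI : Surjective (Spec.map (CommRingCat.ofHom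
      (algebraMap (Y.residueField y) (SeparableClosure (Y.residueField y))))) :=
    ⟨fun s => ⟨IsLocalRing.closedPoint _, Subsingleton.elim (α := PrimeSpectrum (Y.residueField y)) _ _⟩⟩
  let p : MoreMor.geomFiber f y ⟶ f.fiber y := pullback.fst (f.fiberToSpecResidueField y) _
  haveI : Surjective p := inferInstanceAs (Surjective (pullback.fst (f.fiberToSpecResidueField y) (Spec.map (CommRingCat.ofHom
      (algebraMap (Y.residueField y) (SeparableClosure (Y.residueField y)))))))
  rw [← f.range_fiberι y, ← Set.image_univ, ← p.surjective.range_eq, ← Set.image_univ]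
  exact (isPreconnected_univ.image _ p.continuous.continuousOn).image _ (f.fiberι y).continuous.continuousOn

theorem isProper_restrict_of_le (f : X ⟶ Y) {V T : Y.Opens} (h : V ≤ T) [IsProper (f ∣_ T)] : IsProper (f ∣_ V) :=
  (MorphismProperty.arrow_mk_iso_iff @IsProper
    (morphismRestrictRestrict f T (T.ι ⁻¹ᵁ V) ≪≫ morphismRestrictEq f (by
      rw [Scheme.Hom.image_preimage_eq_opensRange_inf, Scheme.Opens.opensRange_ι]
      exact inf_eq_right.2 h))).1 (IsZariskiLocalAtTarget.restrict ‹_› _)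

theorem isProper_iSup {ι : Type*} (f : X ⟶ Y) (V : ι → Y.Opens) (h : ∀ i, IsProper (f ∣_ V i)) :
    IsProper (f ∣_ ⨆ i, V i) := by
  refine IsZariskiLocalAtTarget.of_iSup_eq_top (P := @IsProper) (fun i => (⨆ i, V i).ι ⁻¹ᵁ V i) ?_ fun i => ?_
  · rw [← Scheme.Hom.preimage_iSup]
    exact TopologicalSpace.Opens.ext (Set.eq_univ_iff_forall.2 fun z => z.2)
  · exact (MorphismProperty.arrow_mk_iso_iff @IsProper (morphismRestrictRestrict f _ _ ≪≫
      morphismRestrictEq f (by
        rw [Scheme.Hom.image_preimage_eq_opensRange_inf, Scheme.Opens.opensRange_ι]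
        exact inf_eq_right.2 (le_iSup V i)))).2 (h i)

/-- The base change along a section-providing morphism is proper near every point over a point with proper fibre. -/
theorem exists_proper_baseChange (f : X ⟶ Y) [IsSeparated f] [LocallyOfFinitePresentation f] [QuasiCompact f]
    (g : Y' ⟶ Y) (σ : Y' ⟶ X) (hσ : σ ≫ f = g) (hconn : ∀ y : Y, MoreMor.nGeomConnComp f y ≤ 1) (y' : Y')
    (hy : IsProper (f.fiberToSpecResidueField (g y'))) :
    ∃ U : Y'.Opens, y' ∈ U ∧ IsProper (pullback.snd f g ∣_ U) := by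
  let f' := pullback.snd f g
  let s : Y' ⟶ pullback f g := pullback.lift σ (𝟙 _) (by rw [hσ, Category.id_comp])
  have hs : s ≫ f' = 𝟙 _ := pullback.lift_snd _ _ _
  have hpre : ∀ z, _root_.IsPreconnected (f'.base ⁻¹' {z}) := fun z => isPreconnected_fibre_of_nGeom f' z (by
    rw [(Triage.GeomCount.nGeom_baseChange f f' _ g (IsPullback.of_hasPullback f g) z).2]; exact hconn _)
  have hsc : MoreMor.sectionComponents f' s = Set.univ := Set.eq_univ_iff_forall.2 fun x =>
    (sc_mem_iff f' s rfl).2 ((hpre (f' x)).subset_connectedComponentIn (apply_sec hs _) subset_rfl rfl)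
  have hP : IsProper (f'.fiberToSpecResidueField y') :=
    MorphismProperty.of_isPullback (isPullback_fiberToSpecResidueField_of_isPullback (IsPullback.of_hasPullback f g) y') hy
  have huniv : f'.fiberι y' ⁻¹' connectedComponentIn (f'.base ⁻¹' {y'}) (s.base y') = Set.univ := by
    rw [← sc_fiberι_preimage, hsc, Set.preimage_univ]
  have hop : IsOpen (f'.fiberι y' ⁻¹' connectedComponentIn (f'.base ⁻¹' {y'}) (s.base y')) := huniv ▸ isOpen_univ
  have hW : (⟨_, hop⟩ : (f'.fiber y').Opens) = ⊤ := TopologicalSpace.Opens.ext huniv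
  obtain ⟨U, hU, C, c, c', -, hc', hcc, hr⟩ := properAt_sectionComponents f' s hs y' hop (by
    rw [hW, ← Scheme.topIso_hom]
    exact MorphismProperty.comp_mem @IsProper _ _ inferInstance hP)
  refine ⟨U, hU, ?_⟩
  haveI := hc'
  have hsub : Set.range c ⊆ Set.range (f' ⁻¹ᵁ U).ι := by
    rw [hr, Scheme.Opens.range_ι]; exact Set.inter_subset_right
  let b := IsOpenImmersion.lift (f' ⁻¹ᵁ U).ι c hsub
  have hb : b ≫ (f' ⁻¹ᵁ U).ι = c := IsOpenImmersion.lift_fac _ _ _
  have hbf : b ≫ (f' ∣_ U) = c' := by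
    rw [← cancel_mono U.ι, Category.assoc, morphismRestrict_ι, reassoc_of% hb, hcc]
  haveI : Surjective b := ⟨fun x => by
    obtain ⟨k, hk⟩ : (f' ⁻¹ᵁ U).ι x ∈ Set.range c := by rw [hr, hsc]; exact ⟨trivial, x.2⟩
    exact ⟨k, (f' ⁻¹ᵁ U).ι.isOpenEmbedding.injective (by rw [← Scheme.Hom.comp_apply, hb, hk])⟩⟩
  haveI : IsSeparated f' := inferInstanceAs (IsSeparated (pullback.snd f g))
  haveI : IsSeparated (f' ∣_ U) := MorphismProperty.of_isPullback (isPullback_morphismRestrict f' U).flip inferInstance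
  haveI : LocallyOfFiniteType (f' ∣_ U) := inferInstance
  haveI : IsProper (b ≫ (f' ∣_ U)) := by rw [hbf]; infer_instance
  haveI : UniversallyClosed (f' ∣_ U) := UniversallyClosed.of_comp_surjective b _
  exact {}

/-- EGA IV 15.7.11. -/
theorem exists_open_proper (f : X ⟶ Y) [IsSeparated f] [LocallyOfFinitePresentation f] [QuasiCompact f]
    (g : Y' ⟶ Y) [Surjective g] [LocallyOfFinitePresentation g]
    (hg : IsProper g ∨ Flat g) (σ : Y' ⟶ X) (hσ : σ ≫ f = g) (hconn : ∀ y : Y, MoreMor.nGeomConnComp f y ≤ 1) :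
    ∃ U : Y.Opens, (U : Set Y) = {y : Y | IsProper (f.fiberToSpecResidueField y)} ∧ IsProper (f ∣_ U) := by
  have key : ∀ y, IsProper (f.fiberToSpecResidueField y) → ∃ V : Y.Opens, y ∈ V ∧ IsProper (f ∣_ V) := by
    intro y hy
    let f' := pullback.snd f g
    choose V hV hVp using fun t : {t : Y' // g t = y} =>
      exists_proper_baseChange f g σ hσ hconn t.1 (by rw [t.2]; exact hy)
    rcases hg with hgp | hgf
    · let T : Y'.Opens := ⨆ t, V t
      haveI hfT : IsProper (f' ∣_ T) := isProper_iSup f' V hVp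
      have hcl : IsClosed (g '' (T : Set Y')ᶜ) := g.isClosedMap _ T.isOpen.isClosed_compl
      let W : Y.Opens := ⟨(g '' (T : Set Y')ᶜ)ᶜ, hcl.isOpen_compl⟩
      refine ⟨W, ?_, ?_⟩
      · rintro ⟨t, ht, hty⟩
        exact ht (TopologicalSpace.Opens.mem_iSup.2 ⟨⟨t, hty⟩, hV ⟨t, hty⟩⟩)
      have hsub : g ⁻¹ᵁ W ≤ T := fun t ht => by
        by_contra hn
        exact ht ⟨t, hn, rfl⟩
      haveI : IsProper (f' ∣_ g ⁻¹ᵁ W) := isProper_restrict_of_le f' hsub
      haveI : IsProper (g ∣_ W) := IsZariskiLocalAtTarget.restrict hgp _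
      haveI : Surjective (g ∣_ W) := IsZariskiLocalAtTarget.restrict ‹Surjective g› _
      let π := pullback.fst (f ∣_ W) (g ∣_ W)
      haveI : Surjective π := inferInstance
      have hsq : IsPullback (pullback.fst f g) f' f g := IsPullback.of_hasPullback f g
      haveI : IsProper (pullback.snd (f ∣_ W) (g ∣_ W)) := by
        have h1 : IsPullback ((f' ⁻¹ᵁ g ⁻¹ᵁ W).ι ≫ pullback.fst f g) (f' ∣_ g ⁻¹ᵁ W) f ((g ⁻¹ᵁ W).ι ≫ g) :=
          (isPullback_morphismRestrict f' (g ⁻¹ᵁ W)).flip.paste_horiz hsq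
        have h2 : IsPullback (pullback.fst (f ∣_ W) (g ∣_ W) ≫ (f ⁻¹ᵁ W).ι) (pullback.snd (f ∣_ W) (g ∣_ W)) f
            ((g ⁻¹ᵁ W).ι ≫ g) := by
          have := (IsPullback.of_hasPullback (f ∣_ W) (g ∣_ W)).paste_horiz (isPullback_morphismRestrict f W).flip
          rwa [morphismRestrict_ι] at this
        rw [← h2.isoIsPullback_hom_snd _ _ h1]
        exact MorphismProperty.comp_mem @IsProper _ _ inferInstance inferInstance
      haveI : IsProper (π ≫ (f ∣_ W)) := by
        rw [pullback.condition]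
        exact MorphismProperty.comp_mem @IsProper _ _ inferInstance inferInstance
      haveI : UniversallyClosed (f ∣_ W) := UniversallyClosed.of_comp_surjective π _
      exact {}
    · haveI := hgf
      obtain ⟨t, hty⟩ := g.surjective y
      obtain ⟨N, hN, hyN, -⟩ := exists_isAffineOpen_mem_and_subset (U := (⊤ : Y.Opens)) (x := y) trivial
      obtain ⟨A, hA, htA, hAV⟩ := exists_isAffineOpen_mem_and_subset (U := V ⟨t, hty⟩ ⊓ g ⁻¹ᵁ N) (x := t)
        ⟨hV ⟨t, hty⟩, by show g t ∈ N; rw [hty]; exact hyN⟩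
      let W : Y.Opens := ⟨g '' (A : Set Y'), g.isOpenMap _ A.isOpen⟩
      refine ⟨W, ⟨t, htA, hty⟩, ?_⟩
      let l : A.toScheme ⟶ W.toScheme := IsOpenImmersion.lift W.ι (A.ι ≫ g) (by
        rw [Scheme.Opens.range_ι]
        rintro _ ⟨a, rfl⟩
        exact ⟨a.1, a.2, (Scheme.Hom.comp_apply A.ι g a).symm⟩)
      have hl : l ≫ W.ι = A.ι ≫ g := IsOpenImmersion.lift_fac _ _ _
      haveI : Surjective l := ⟨fun w => by
        obtain ⟨a, ha, haw⟩ := w.2
        refine ⟨⟨a, ha⟩, W.ι.isOpenEmbedding.injective ?_⟩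
        rw [← Scheme.Hom.comp_apply, hl]
        exact haw⟩
      haveI : Flat (A.ι ≫ g) := MorphismProperty.comp_mem @Flat _ _ inferInstance inferInstance
      haveI : Flat l :=
        MorphismProperty.of_isPullback (P := @Flat) (IsPullback.of_horiz_isIso_mono (fst := 𝟙 A.toScheme) (snd := l)
          (f := A.ι ≫ g) (g := W.ι) ⟨by rw [Category.id_comp, hl]⟩) inferInstance
      haveI : IsAffine A.toScheme := hA
      haveI : IsAffine N.toScheme := hN
      have hWN : (W : Y.Opens) ≤ N := by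
        rintro _ ⟨a, ha, rfl⟩
        exact (hAV ha).2
      haveI : QuasiCompact (l ≫ Y.homOfLE hWN) := inferInstance
      haveI : QuasiCompact l := QuasiCompact.of_comp l (Y.homOfLE hWN)
      have hAp : IsProper (f' ∣_ A) :=
        haveI := hVp ⟨t, hty⟩; isProper_restrict_of_le f' (hAV.trans inf_le_left)
      have h1 : IsPullback ((f' ⁻¹ᵁ A).ι ≫ pullback.fst f g) (f' ∣_ A) f (l ≫ W.ι) := by
        rw [hl]; exact (isPullback_morphismRestrict f' A).flip.paste_horiz (IsPullback.of_hasPullback f g)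
      have h2 : IsPullback (IsOpenImmersion.lift (f ⁻¹ᵁ W).ι ((f' ⁻¹ᵁ A).ι ≫ pullback.fst f g) (by
          rw [Scheme.Opens.range_ι]
          rintro _ ⟨a, rfl⟩
          show f (((f' ⁻¹ᵁ A).ι ≫ pullback.fst f g) a) ∈ W
          rw [← Scheme.Hom.comp_apply, h1.w, ← Category.assoc, Scheme.Hom.comp_apply]
          exact ((f' ∣_ A ≫ l) a).2)) (f' ∣_ A) (f ∣_ W) l := by
        refine IsPullback.of_right ?_ ?_ (isPullback_morphismRestrict f W).flip
        · rw [IsOpenImmersion.lift_fac]; exact h1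
        · rw [← cancel_mono W.ι, Category.assoc, morphismRestrict_ι, IsOpenImmersion.lift_fac_assoc, Category.assoc]
          exact h1.w
      exact S0086.result.of_isPullback h2.flip ⟨⟨inferInstance, inferInstance⟩, inferInstance⟩ hAp
  choose V hV hVp using key
  refine ⟨⨆ t : {y : Y // IsProper (f.fiberToSpecResidueField y)}, V t.1 t.2, ?_,
    isProper_iSup f _ fun t => hVp t.1 t.2⟩
  ext z
  simp only [TopologicalSpace.Opens.coe_iSup, Set.mem_iUnion]
  refine ⟨?_, fun h => ⟨⟨z, h⟩, hV z h⟩⟩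
  rintro ⟨t, hz⟩
  haveI := hVp t.1 t.2
  obtain ⟨v, rfl⟩ : z ∈ Set.range (V t.1 t.2).ι := by rw [Scheme.Opens.range_ι]; exact hz
  have hsq := isPullback_fiberToSpecResidueField_of_isPullback (isPullback_morphismRestrict f (V t.1 t.2)).flip v
  haveI : IsIso (Spec.map ((V t.1 t.2).ι.residueFieldMap v)) := inferInstance
  let Φ := pullback.map (f ∣_ V t.1 t.2) ((V t.1 t.2).toScheme.fromSpecResidueField v) f
      (Y.fromSpecResidueField ((V t.1 t.2).ι v)) (f ⁻¹ᵁ V t.1 t.2).ι (Spec.map ((V t.1 t.2).ι.residueFieldMap v))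
      (V t.1 t.2).ι (morphismRestrict_ι f _) (Scheme.Hom.SpecMap_residueFieldMap_fromSpecResidueField _ _).symm
  haveI : IsIso Φ := MorphismProperty.of_isPullback (P := MorphismProperty.isomorphisms Scheme.{u}) hsq.flip inferInstance
  show IsProper _
  haveI : IsProper ((f ∣_ V t.1 t.2).fiberToSpecResidueField v) :=
    inferInstanceAs (IsProper (pullback.snd (f ∣_ V t.1 t.2) ((V t.1 t.2).toScheme.fromSpecResidueField v)))
  have hp : IsProper ((f ∣_ V t.1 t.2).fiberToSpecResidueField v ≫ Spec.map ((V t.1 t.2).ι.residueFieldMap v)) :=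
    MorphismProperty.comp_mem @IsProper _ _ inferInstance inferInstance
  rw [← hsq.w] at hp
  exact (MorphismProperty.cancel_left_of_respectsIso @IsProper Φ _).1 hp

end Groth.Agent.H1Proper
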