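import Groth.Agent.H1Proper.Transfer
import Groth.Agent.H1Spread.Constr
import Groth.Agent.ConsPropLib.CoreProper
import Groth.Agent.S1324
import Groth.Agent.S9218
import Mathlib

/-!
# Properness at a point of the component of a section (EGA IV 15.7.2)
-/

universe u

set_option backward.isDefEq.respectTransparency false
set_option backward.isDefEq.respectTransparency.types false
set_option maxHeartbeats 1000000
set_option linter.style.haveILetI false

open AlgebraicGeometry CategoryTheory CategoryTheory.Limits TopologicalSpace Topology IsLocalRing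

noncomputable section

namespace Groth.Agent.H1Proper
open Groth.Agent.MorLib Groth.Agent.MorLib.Desc

variable {X Y : Scheme.{u}}

theorem exists_section_model [IsAffine Y] (f : X ⟶ Y) [LocallyOfFinitePresentation f] [QuasiCompact f]
    [IsSeparated f] (g : Y ⟶ X) (hg : g ≫ f = 𝟙 Y) :
    ∃ (S₀ X₀ : Scheme.{u}) (π : Y ⟶ S₀) (f₀ : X₀ ⟶ S₀) (g₀ : S₀ ⟶ X₀) (q : X ⟶ X₀),
      IsNoetherian S₀ ∧ LocallyOfFiniteType f₀ ∧ QuasiCompact f₀ ∧ IsSeparated f₀ ∧
        IsPullback q f f₀ π ∧ g₀ ≫ f₀ = 𝟙 S₀ ∧ g ≫ q = π ≫ g₀ := by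
  obtain ⟨I, _, _, D, c, hc, e, hA, hN⟩ := ConsPropLib.exists_noetherian_limit Y
  haveI := hA
  haveI : ∀ {i j : I} (φ : i ⟶ j), IsAffineHom (D.map φ) := fun φ => isAffineHom_of_isAffine _
  haveI : ∀ (i j : I) (φ : i ⟶ j), IsAffineHom (D.map φ) := fun i j φ => isAffineHom_of_isAffine _
  let h : X ⟶ c.pt := f ≫ e.inv
  obtain ⟨i, X₁, u₁, g₁, hX⟩ := ConsPropLib.hasModel hc h
  haveI := hX.lfp; haveI := hX.qc; haveI := hX.qs; haveI := hX.compactSpace; haveI := hX.quasiSeparatedSpace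
  haveI : IsSeparated h := inferInstanceAs (IsSeparated (f ≫ e.inv))
  have hsep : IsSeparated (pullback.snd u₁ (c.π.app i)) :=
    of_two @IsSeparated hX.sq (IsPullback.of_hasPullback _ _) inferInstance
  obtain ⟨j, φ, hj⟩ := core_isSeparated I D c hc (fun a b f => inferInstance) i (hA i) u₁
    inferInstance inferInstance trivial hsep
  haveI := hj
  have mX := hX.pushed φ
  haveI := mX.lfp; haveI := mX.qc; haveI := mX.compactSpace; haveI := mX.quasiSeparatedSpace
  let s' : c.pt ⟶ X := e.hom ≫ g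
  have hs' : s' ≫ h = 𝟙 c.pt := by
    show (e.hom ≫ g) ≫ f ≫ e.inv = _
    rw [Category.assoc, reassoc_of% hg, Iso.hom_inv_id]
  obtain ⟨l, χ, fl, sY, sX, hfl', hA1, hA2, hB1, hB2, hsq⟩ :=
    S9218.result D c hc j (𝟙 (D.obj j)) (pullback.snd u₁ (D.map φ)) (c.π.app j) (𝟙 c.pt)
      (IsPullback.id_horiz (c.π.app j) |>.flip) (hX.push φ) h mX.sq s' hs'
  have mX' := mX.pushed χ
  haveI := mX'.lfp; haveI := mX'.qc
  have eX : sX = mX.push χ :=
    pullback.hom_ext (hB1.trans (mX.push_fst χ).symm) (hB2.trans (mX.push_snd χ).symm)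
  subst eX
  let ι := pullback.snd (𝟙 (D.obj j)) (D.map χ)
  refine ⟨D.obj l, _, e.inv ≫ c.π.app l, pullback.snd (pullback.snd u₁ (D.map φ)) (D.map χ), inv ι ≫ fl,
    mX.push χ, hN l, inferInstance, inferInstance, inferInstance, ?_, ?_, ?_⟩
  · exact mX'.sq.of_iso (Iso.refl _) (Iso.refl _) e (Iso.refl _) (by simp) (by simp [h]) (by simp) (by simp)
  · rw [Category.assoc, hfl', IsIso.inv_hom_id]
  · have h3 : sY ≫ ι = c.π.app l := hA2.trans (Category.id_comp _)
    have h4 : sY = c.π.app l ≫ inv ι := by rw [← h3, Category.assoc, IsIso.hom_inv_id, Category.comp_id]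
    have h5 := congrArg (e.inv ≫ ·) hsq
    simp only [s', Category.assoc, Iso.inv_hom_id_assoc, h4] at h5
    rw [← h5, Category.assoc]

theorem sc_mem_iff (f : X ⟶ Y) (g : Y ⟶ X) {x : X} {y : Y} (hy : f x = y) :
    x ∈ MoreMor.sectionComponents f g ↔ x ∈ connectedComponentIn (f.base ⁻¹' {y}) (g.base y) := by
  subst hy; rfl

theorem sc_inter_fibre (f : X ⟶ Y) (g : Y ⟶ X) (y : Y) :
    MoreMor.sectionComponents f g ∩ f.base ⁻¹' {y} = connectedComponentIn (f.base ⁻¹' {y}) (g.base y) := by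
  ext x
  exact ⟨fun h => (sc_mem_iff f g h.2).1 h.1, fun h => ⟨(sc_mem_iff f g (connectedComponentIn_subset (f.base ⁻¹' {y}) (g.base y) h)).2 h,
    connectedComponentIn_subset (f.base ⁻¹' {y}) (g.base y) h⟩⟩

theorem apply_sec {f : X ⟶ Y} {g : Y ⟶ X} (hg : g ≫ f = 𝟙 Y) (y : Y) : f (g y) = y := by
  rw [← Scheme.Hom.comp_apply, hg]; rfl

theorem sc_fiberι_preimage (f : X ⟶ Y) (g : Y ⟶ X) (y : Y) :
    f.fiberι y ⁻¹' MoreMor.sectionComponents f g = f.fiberι y ⁻¹' connectedComponentIn (f.base ⁻¹' {y}) (g.base y) := by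
  ext w
  exact sc_mem_iff f g ((f.range_fiberι y).le ⟨w, rfl⟩)

theorem properAt_sectionComponents_noetherian [IsNoetherian Y] (f : X ⟶ Y) [IsSeparated f] [LocallyOfFiniteType f]
    [QuasiCompact f] (g : Y ⟶ X) (hg : g ≫ f = 𝟙 Y) (y : Y) (hP : ProperFibre f (MoreMor.sectionComponents f g) y) :
    ProperAt f (MoreMor.sectionComponents f g) y := by
  refine exists_proper_at f _ (H1Spread.isConstructible_sectionComponents f g hg) y ?_ hP ?_
  · intro A _ _ _ G _
    let gA : Spec (CommRingCat.of A) ⟶ pullback f G :=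
      pullback.lift (G ≫ g) (𝟙 _) (by rw [Category.assoc, hg, Category.comp_id, Category.id_comp])
    have hgA : gA ≫ pullback.snd f G = 𝟙 _ := pullback.lift_snd _ _ _
    rw [← S1324.result f g hg _ _ _ (IsPullback.of_hasPullback f G) gA hgA (pullback.lift_fst _ _ _),
      sc_inter_fibre]
    have hη : gA (gpt A) ∈ connectedComponentIn ((pullback.snd f G).base ⁻¹' {gpt A}) (gA.base (gpt A)) :=
      mem_connectedComponentIn (apply_sec hgA (gpt A))
    refine ⟨isPreconnected_connectedComponentIn, gA (pt A),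
      closure_mono (Set.singleton_subset_iff.2 hη) ((gpt_specializes (pt A)).map gA.continuous).mem_closure,
      apply_sec hgA _, ?_⟩
    rw [← Scheme.Hom.comp_apply, pullback.lift_fst, Scheme.Hom.comp_apply]
    exact (sc_mem_iff f g (apply_sec hg _)).2 (mem_connectedComponentIn (apply_sec hg _))
  · intro y' _ x hx hfx
    rw [sc_inter_fibre]
    exact connectedComponentIn_eq ((sc_mem_iff f g hfx).1 hx)

/-- EGA IV 15.7.2. -/
theorem properAt_sectionComponents (f : X ⟶ Y) [IsSeparated f] [LocallyOfFinitePresentation f] [QuasiCompact f]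
    (g : Y ⟶ X) (hg : g ≫ f = 𝟙 Y) (y : Y) (hop : IsOpen (f.fiberι y ⁻¹' connectedComponentIn (f.base ⁻¹' {y}) (g.base y)))
    (hprop : IsProper (Scheme.Opens.ι (⟨f.fiberι y ⁻¹' connectedComponentIn (f.base ⁻¹' {y}) (g.base y), hop⟩ : (f.fiber y).Opens) ≫
      f.fiberToSpecResidueField y)) :
    ProperAt f (MoreMor.sectionComponents f g) y := by
  obtain ⟨V, hV, hyV, -⟩ := exists_isAffineOpen_mem_and_subset (U := (⊤ : Y.Opens)) (x := y) trivial
  haveI : IsAffine V.toScheme := hV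
  obtain ⟨v, rfl⟩ : y ∈ Set.range V.ι := by rw [Scheme.Opens.range_ι]; exact hyV
  let gV : V.toScheme ⟶ pullback f V.ι :=
    pullback.lift (V.ι ≫ g) (𝟙 _) (by rw [Category.assoc, hg, Category.comp_id, Category.id_comp])
  have hgV : gV ≫ pullback.snd f V.ι = 𝟙 _ := pullback.lift_snd _ _ _
  obtain ⟨S₀, X₀, π, f₀, g₀, q, hS, hl, hqc, hsep, sq, hg₀, hgq⟩ := exists_section_model (pullback.snd f V.ι) gV hgV
  haveI := hS; haveI := hl; haveI := hqc; haveI := hsep
  have hscV := S1324.result f g hg _ _ _ (IsPullback.of_hasPullback f V.ι) gV hgV (pullback.lift_fst _ _ _)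
  have hsc₀ := S1324.result f₀ g₀ hg₀ _ _ _ sq gV hgV hgq
  refine ProperAt.of_open f V ?_
  rw [← hscV, hsc₀]
  refine ProperAt.baseChange sq ?_
  refine properAt_sectionComponents_noetherian f₀ g₀ hg₀ (π v) ?_
  have hopV : IsOpen ((pullback.snd f V.ι).fiberι v ⁻¹' MoreMor.sectionComponents (pullback.snd f V.ι) gV) := by
    rw [sc_fiberι_preimage]
    exact isOpen_fiberι_preimage_component _ v (apply_sec hgV v)
  let WV : ((pullback.snd f V.ι).fiber v).Opens := ⟨_, hopV⟩
  have hop₀ : IsOpen (f₀.fiberι (π v) ⁻¹' MoreMor.sectionComponents f₀ g₀) := by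
    rw [sc_fiberι_preimage]
    exact isOpen_fiberι_preimage_component _ _ (apply_sec hg₀ _)
  have h1 : IsProper (WV.ι ≫ (pullback.snd f V.ι).fiberToSpecResidueField v) :=
    (isProper_opens_iff (IsPullback.of_hasPullback f V.ι) v _ WV (MoreMor.sectionComponents f g)
      (sc_fiberι_preimage f g _).symm (by
        show (pullback.snd f V.ι).fiberι v ⁻¹' MoreMor.sectionComponents (pullback.snd f V.ι) gV = _
        rw [hscV])).1 hprop
  haveI := (isProper_opens_iff sq v (⟨_, hop₀⟩ : (f₀.fiber (π v)).Opens) WV (MoreMor.sectionComponents f₀ g₀) rfl (by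
        show (pullback.snd f V.ι).fiberι v ⁻¹' MoreMor.sectionComponents (pullback.snd f V.ι) gV = _
        rw [hsc₀])).2 h1
  exact properAt_of_opens f₀ (π v) ⟨_, hop₀⟩ _ rfl

end Groth.Agent.H1Proper
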