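import Groth.Agent.H1Proper.Core
import Groth.Agent.H23.LocNoethTop
import Groth.Agent.S0086
import Groth.Prelude.Def_MoreMor
import Mathlib

/-!
# Transfer lemmas for properness at a point
-/

universe u

set_option backward.isDefEq.respectTransparency false
set_option backward.isDefEq.respectTransparency.types false
set_option maxHeartbeats 1000000
set_option linter.style.haveILetI false

open AlgebraicGeometry CategoryTheory CategoryTheory.Limits TopologicalSpace Topology IsLocalRing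

noncomputable section

namespace Groth.Agent.H1Proper

variable {X Y X' Y' : Scheme.{u}}

/-- `Z` is proper over `Y` near `y`, in terms of a parametrisation. -/
def ProperAt (f : X ⟶ Y) (Z : Set X) (y : Y) : Prop :=
  ∃ U : Y.Opens, y ∈ U ∧ ∃ (C : Scheme.{u}) (c : C ⟶ X) (c' : C ⟶ U.toScheme), Mono c ∧ IsProper c' ∧
    c' ≫ U.ι = c ≫ f ∧ Set.range c = Z ∩ f ⁻¹' (U : Set Y)

theorem ProperAt.closed_subscheme (f : X ⟶ Y) [IsSeparated f] {Z : Set X} {y : Y} (h : ProperAt f Z y) :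
    ∃ U : Y.Opens, y ∈ U ∧ ∃ hC : IsClosed ((f ⁻¹ᵁ U).ι.base ⁻¹' Z),
      IsProper ((Scheme.IdealSheafData.vanishingIdeal
        (⟨(f ⁻¹ᵁ U).ι.base ⁻¹' Z, hC⟩ : TopologicalSpace.Closeds ↥(f ⁻¹ᵁ U))).subschemeι ≫ (f ∣_ U)) := by
  obtain ⟨U, hyU, C, c, c', hmono, hc', hcc, hr⟩ := h
  have hrU : Set.range c ⊆ Set.range (f ⁻¹ᵁ U).ι := by
    rw [hr, Scheme.Opens.range_ι]; exact Set.inter_subset_right
  let b := IsOpenImmersion.lift (f ⁻¹ᵁ U).ι c hrU
  have hb : b ≫ (f ⁻¹ᵁ U).ι = c := IsOpenImmersion.lift_fac _ _ _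
  have hbf : b ≫ (f ∣_ U) = c' := by
    rw [← cancel_mono U.ι, Category.assoc, morphismRestrict_ι, reassoc_of% hb, hcc]
  haveI : IsSeparated (f ∣_ U) := MorphismProperty.of_isPullback (isPullback_morphismRestrict f U).flip inferInstance
  haveI : IsProper (b ≫ (f ∣_ U)) := by rw [hbf]; exact hc'
  haveI : IsProper b := IsProper.of_comp b (f ∣_ U)
  haveI : Mono (b ≫ (f ⁻¹ᵁ U).ι) := by rw [hb]; exact hmono
  haveI : Mono b := mono_of_mono b (f ⁻¹ᵁ U).ι
  haveI : IsClosedImmersion b := (IsClosedImmersion.iff_isProper_and_mono b).2 ⟨inferInstance, inferInstance⟩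
  have hrb : Set.range b = (f ⁻¹ᵁ U).ι.base ⁻¹' Z := by
    ext x
    constructor
    · rintro ⟨k, rfl⟩
      show (f ⁻¹ᵁ U).ι (b k) ∈ Z
      rw [← Scheme.Hom.comp_apply, hb]
      exact (hr.le ⟨k, rfl⟩).1
    · intro hx
      obtain ⟨k, hk⟩ : (f ⁻¹ᵁ U).ι x ∈ Set.range c := by
        rw [hr]
        exact ⟨hx, x.2⟩
      refine ⟨k, (f ⁻¹ᵁ U).ι.isOpenEmbedding.injective ?_⟩
      rw [← Scheme.Hom.comp_apply, hb, hk]
  have hC : IsClosed ((f ⁻¹ᵁ U).ι.base ⁻¹' Z) := hrb ▸ b.isClosedEmbedding.isClosed_range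
  refine ⟨U, hyU, hC, ?_⟩
  let v := (Scheme.IdealSheafData.vanishingIdeal
    (⟨(f ⁻¹ᵁ U).ι.base ⁻¹' Z, hC⟩ : TopologicalSpace.Closeds ↥(f ⁻¹ᵁ U).toScheme)).subschemeι
  obtain ⟨l, hl⟩ := H23.RedSub.exists_lift_closed v b (by rw [H23.RedSub.range_vanishingIdeal, hrb]; rfl)
  haveI : IsClosedImmersion (l ≫ b) := by rw [hl]; infer_instance
  haveI : IsClosedImmersion l := IsClosedImmersion.of_comp l b
  show IsProper (v ≫ (f ∣_ U))
  rw [← hl, Category.assoc]
  exact MorphismProperty.comp_mem @IsProper _ _ inferInstance ‹_›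

/-- Base change of properness near a point. -/
theorem ProperAt.baseChange {f : X ⟶ Y} {f' : X' ⟶ Y'} {q : X' ⟶ X} {π : Y' ⟶ Y} (sq : IsPullback q f' f π)
    {Z : Set X} {y' : Y'} (h : ProperAt f Z (π y')) : ProperAt f' (q ⁻¹' Z) y' := by
  obtain ⟨U, hyU, C, c, c', hmono, hc', hcc, hr⟩ := h
  let U' : Y'.Opens := π ⁻¹ᵁ U
  haveI := hmono
  haveI := hc'
  have hfq : ∀ x, f (q x) = π (f' x) := fun x => by rw [← Scheme.Hom.comp_apply, sq.w, Scheme.Hom.comp_apply]
  let d := pullback.snd c q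
  have hsub : Set.range (d ≫ f') ⊆ Set.range U'.ι := by
    rw [Scheme.Opens.range_ι]
    rintro _ ⟨k, rfl⟩
    show π ((d ≫ f') k) ∈ U
    rw [Scheme.Hom.comp_apply, ← hfq,
      show q (d k) = c (pullback.fst c q k) from congrArg (fun m : pullback c q ⟶ X => m k) pullback.condition.symm]
    exact (hr.le ⟨_, rfl⟩).2
  let d' := IsOpenImmersion.lift U'.ι (d ≫ f') hsub
  have hd' : d' ≫ U'.ι = d ≫ f' := IsOpenImmersion.lift_fac _ _ _
  have hout : IsPullback (pullback.fst c q) (d' ≫ U'.ι) (c' ≫ U.ι) π := by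
    rw [hd', hcc]
    exact (IsPullback.of_hasPullback c q).paste_vert sq
  have h2 : IsPullback (pullback.fst c q) d' c' (π ∣_ U) := by
    refine IsPullback.of_bot hout ?_ (isPullback_morphismRestrict π U)
    rw [← cancel_mono U.ι, Category.assoc, Category.assoc, morphismRestrict_ι, reassoc_of% hd', hcc,
      pullback.condition_assoc, sq.w]
  haveI : IsProper d' := MorphismProperty.of_isPullback h2 hc'
  refine ⟨U', hyU, pullback c q, d, d', inferInstance, inferInstance, hd', ?_⟩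
  rw [Scheme.Pullback.range_snd, hr]
  ext x
  exact and_congr_right fun _ => by
    show f (q x) ∈ U ↔ π (f' x) ∈ U
    rw [hfq]

/-- Properness near a point is local on the base. -/
theorem ProperAt.of_open (f : X ⟶ Y) (V : Y.Opens) {Z : Set X} {v : V.toScheme}
    (h : ProperAt (pullback.snd f V.ι) (pullback.fst f V.ι ⁻¹' Z) v) : ProperAt f Z (V.ι v) := by
  obtain ⟨U, hvU, C, c, c', hmono, hc', hcc, hr⟩ := h
  haveI := hmono
  haveI := hc'
  let p := pullback.fst f V.ι
  let U' : Y.Opens := V.ι ''ᵁ U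
  let e := IsOpenImmersion.isoOfRangeEq (U.ι ≫ V.ι) U'.ι (by
    rw [Scheme.Opens.range_ι, Scheme.Hom.comp_base, TopCat.coe_comp, Set.range_comp, Scheme.Opens.range_ι]
    rfl)
  refine ⟨U', ⟨v, hvU, rfl⟩, C, c ≫ p, c' ≫ e.hom, inferInstance, inferInstance, ?_, ?_⟩
  · rw [Category.assoc, IsOpenImmersion.isoOfRangeEq_hom_fac, reassoc_of% hcc, Category.assoc]
    exact congrArg (c ≫ ·) pullback.condition.symm
  · rw [Scheme.Hom.comp_base, TopCat.coe_comp, Set.range_comp, hr]
    ext x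
    constructor
    · rintro ⟨a, ⟨ha, haU⟩, rfl⟩
      refine ⟨ha, ?_⟩
      show f (p a) ∈ U'
      rw [← Scheme.Hom.comp_apply, pullback.condition, Scheme.Hom.comp_apply]
      exact ⟨_, haU, rfl⟩
    · rintro ⟨hxZ, u, huU, hu⟩
      obtain ⟨a, ha, ha'⟩ := Scheme.Pullback.exists_preimage_pullback (f := f) (g := V.ι) x u hu.symm
      exact ⟨a, ⟨by show p a ∈ Z; rw [ha]; exact hxZ, by show pullback.snd f V.ι a ∈ U; rw [ha']; exact huU⟩, ha⟩

theorem properAt_of_opens (f : X ⟶ Y) (y : Y) (W : (f.fiber y).Opens) [IsProper (W.ι ≫ f.fiberToSpecResidueField y)]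
    (Z : Set X) (hW : (W : Set ↥(f.fiber y)) = f.fiberι y ⁻¹' Z) : ProperFibre f Z y := by
  haveI : Mono (f.fiberι y) := inferInstanceAs (Mono (pullback.fst f (Y.fromSpecResidueField y)))
  refine ⟨W.toScheme, W.ι ≫ f.fiberι y, W.ι ≫ f.fiberToSpecResidueField y, mono_comp _ _, inferInstance, ?_, ?_, ?_⟩
  · rw [Category.assoc, Category.assoc]
    exact congrArg (W.ι ≫ ·) pullback.condition
  · rw [Scheme.Hom.comp_base, TopCat.coe_comp, Set.range_comp, Scheme.Opens.range_ι, hW,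
      Set.image_preimage_eq_inter_range, Scheme.Hom.range_fiberι]
  · obtain ⟨O, hO, hOW⟩ := (f.fiberι y).isEmbedding.isInducing.isOpen_iff.1 W.isOpen
    refine ⟨O, hO, ?_⟩
    rw [← Scheme.Hom.range_fiberι f y, ← Set.image_preimage_eq_inter_range, hOW, hW, Set.image_preimage_eq_inter_range]

theorem flat_spec_field {k K : Type u} [Field k] [CommRing K] (φ : CommRingCat.of k ⟶ CommRingCat.of K) :
    Flat (Spec.map φ) := by
  rw [HasRingHomProperty.Spec_iff (P := @Flat)]
  letI := φ.hom.toAlgebra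
  exact (inferInstance : Module.Flat k K)

/-- Properness of an open part of a fibre is invariant under base change. -/
theorem isProper_opens_iff {f : X ⟶ Y} {f' : X' ⟶ Y'} {q : X' ⟶ X} {π : Y' ⟶ Y} (sq : IsPullback q f' f π)
    (y' : Y') (W : (f.fiber (π y')).Opens) (W' : (f'.fiber y').Opens)
    (Z : Set X)
    (hW : (W : Set ↥(f.fiber (π y'))) = f.fiberι (π y') ⁻¹' Z)
    (hW' : (W' : Set ↥(f'.fiber y')) = f'.fiberι y' ⁻¹' (q ⁻¹' Z)) :
    IsProper (W.ι ≫ f.fiberToSpecResidueField (π y')) ↔ IsProper (W'.ι ≫ f'.fiberToSpecResidueField y') := by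
  let Φ := pullback.map f' (Y'.fromSpecResidueField y') f (Y.fromSpecResidueField (π y')) q
    (Spec.map (π.residueFieldMap y')) π sq.w.symm (by simp)
  have hΦ : Φ ≫ f.fiberι (π y') = f'.fiberι y' ≫ q := pullback.lift_fst _ _ _
  have hsq : IsPullback Φ (f'.fiberToSpecResidueField y') (f.fiberToSpecResidueField (π y'))
      (Spec.map (π.residueFieldMap y')) := isPullback_fiberToSpecResidueField_of_isPullback sq y'
  have hpre : Φ ⁻¹ᵁ W = W' := by
    refine TopologicalSpace.Opens.ext ?_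
    show Φ ⁻¹' (W : Set ↥(f.fiber (π y'))) = (W' : Set ↥(f'.fiber y'))
    rw [hW, hW']
    ext z
    show f.fiberι (π y') (Φ z) ∈ Z ↔ q (f'.fiberι y' z) ∈ Z
    rw [show f.fiberι (π y') (Φ z) = q (f'.fiberι y' z) from congrArg (fun m : f'.fiber y' ⟶ X => m z) hΦ]
  have h2 : IsPullback (Φ ∣_ W) ((Φ ⁻¹ᵁ W).ι ≫ f'.fiberToSpecResidueField y')
      (W.ι ≫ f.fiberToSpecResidueField (π y')) (Spec.map (π.residueFieldMap y')) :=
    (isPullback_morphismRestrict Φ W).paste_vert hsq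
  haveI : Flat (Spec.map (π.residueFieldMap y')) :=
    flat_spec_field (k := Y.residueField (π y')) (K := Y'.residueField y') _
  haveI : Surjective (Spec.map (π.residueFieldMap y')) :=
    ⟨fun s => ⟨IsLocalRing.closedPoint (Y'.residueField y'), Subsingleton.elim (α := PrimeSpectrum (Y.residueField (π y'))) _ _⟩⟩
  refine ⟨fun h => ?_, fun h => ?_⟩
  · rw [← hpre]
    exact MorphismProperty.of_isPullback h2 h
  · rw [← hpre] at h
    exact S0086.result.of_isPullback h2.flip ⟨⟨inferInstance, inferInstance⟩, inferInstance⟩ h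

/-- A connected component of a fibre is open in the fibre. -/
theorem isOpen_fiberι_preimage_component (f : X ⟶ Y) [LocallyOfFiniteType f] (y : Y) {x : X} (hx : f x = y) :
    IsOpen (f.fiberι y ⁻¹' connectedComponentIn (f.base ⁻¹' {y}) x) := by
  haveI : IsLocallyNoetherian (f.fiber y) := LocallyOfFiniteType.isLocallyNoetherian (f.fiberToSpecResidueField y)
  haveI : LocallyConnectedSpace ↥(f.fiber y) := H23.LocNoethTop.locallyConnectedSpace fun w => by
    obtain ⟨_, ⟨(V : (f.fiber y).Opens), hV : IsAffineOpen V, rfl⟩, hwV, -⟩ :=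
      (f.fiber y).isBasis_affineOpens.exists_subset_of_mem_open (Set.mem_univ w) isOpen_univ
    haveI : IsNoetherianRing Γ(f.fiber y, V) := IsLocallyNoetherian.component_noetherian ⟨V, hV⟩
    exact ⟨V, V.isOpen.mem_nhds hwV, noetherianSpace_of_isAffineOpen V hV⟩
  obtain ⟨a, ha⟩ : x ∈ Set.range (f.fiberι y) := by rw [Scheme.Hom.range_fiberι]; exact hx
  convert (isOpen_connectedComponent (x := a)) using 1
  ext b
  have h := connectedComponentIn_eq_image (show x ∈ f.base ⁻¹' {y} from hx)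
  constructor
  · intro hb
    rw [Set.mem_preimage, h] at hb
    obtain ⟨w, hw, hwb⟩ := hb
    have h2 := (f.fiberHomeo y).symm.continuous.image_connectedComponent_subset _ ⟨_, hw, rfl⟩
    rwa [show (f.fiberHomeo y).symm ⟨x, hx⟩ = a from (f.fiberHomeo y).symm_apply_eq.2 (Subtype.ext ha.symm),
      show (f.fiberHomeo y).symm w = b from (f.fiberHomeo y).symm_apply_eq.2 (Subtype.ext hwb)] at h2
  · intro hb
    rw [Set.mem_preimage, h]
    refine ⟨f.fiberHomeo y b, ?_, rfl⟩
    rw [show (⟨x, hx⟩ : ↥(f.base ⁻¹' {y})) = f.fiberHomeo y a from Subtype.ext ha.symm]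
    exact (f.fiberHomeo y).continuous.image_connectedComponent_subset a ⟨b, hb, rfl⟩

end Groth.Agent.H1Proper
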